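import Cfsg.Agent.Lib.FusionModelSub.Covered
import Cfsg.Agent.Lib.Fusion.LocalSaturation
import Cfsg.Agent.Lib.Fusion.Normal
import Cfsg.Agent.S5086

/-!
# Section freeness passes to normalizers
-/

set_option autoImplicit false

namespace CfsgLib.FusionModelSub

open Cfsg Cfsg.FusionSystem CfsgLib.Fusion CfsgLib.FusionModel

universe u

variable {Ω : Type u} [Group Ω] {S : Subgroup Ω} {F : Cfsg.FusionSystem S} {p : ℕ} {Q : Subgroup Ω}

theorem isNormal_normalizerSystem (hQ : Q ≤ S) {N : Cfsg.FusionSystem (normalizerIn S Q)}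
    (hN : F.IsNormalizerSystem Q N) : N.IsNormal Q := by
  refine ⟨le_normalizerIn hQ, fun P φ hφ => ?_⟩
  rw [hN P] at hφ
  obtain ⟨-, hP, hv, ψ, hψ, hag, hQQ⟩ := hφ
  refine ⟨ψ, ?_, hag, hQQ⟩
  rw [hN]
  have hle : (P ⊔ Q) ⊔ Q ≤ P ⊔ Q := sup_le le_rfl le_sup_right
  refine ⟨hψ, sup_le hP (le_normalizerIn hQ), forall_mem_of_sup (fun x => hag x ▸ hv x)
    (fun x => le_normalizerIn hQ (mem_of_map_subgroupOf_sup_eq hQQ x)),
    ψ.comp (Subgroup.inclusion hle), restrict_mem hψ hle, fun x => rfl, ?_⟩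
  ext y
  rw [mem_map_subgroupOf]
  constructor
  · rintro ⟨x, -, hxQ, rfl⟩
    exact mem_of_map_subgroupOf_sup_eq hQQ ⟨x, hxQ⟩
  · intro hy
    rw [← hQQ] at hy
    obtain ⟨⟨x, hx⟩, hxQ, rfl⟩ := hy
    exact ⟨x, le_sup_left (b := Q) hx, hxQ, rfl⟩

/-- A centric subgroup of a normalizer system containing the normalized subgroup is centric. -/
theorem isCentric_of_normalizerSystem [Finite S] [Fact p.Prime] (hS : IsPGroup p S)
    (hF : F.IsSaturated p) (hQ : F.IsFullyNormalized Q)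
    {N : Cfsg.FusionSystem (normalizerIn S Q)} (hN : F.IsNormalizerSystem Q N) {R : Subgroup Ω}
    (hR : N.IsCentric R) (hQR : Q ≤ R) : F.IsCentric R := by
  have hRS : R ≤ S := hR.1.trans (normalizerIn_le S Q)
  refine ⟨hRS, ?_⟩
  rintro _ ⟨φ, hφ, rfl⟩
  intro c hc
  let φ₀ : Q →* Ω := φ.comp (Subgroup.inclusion hQR)
  have hφ₀ : φ₀ ∈ F.Hom Q := restrict_mem hφ hQR
  obtain ⟨e, he, ψ, hψ, hψv, hag⟩ :=
    exists_normalizer_map hS hF hQ (isConj_symm ⟨φ₀, hφ₀, rfl⟩)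
  have hle : φ.range ≤ normalizerIn S φ₀.range := by
    rintro _ ⟨r, rfl⟩
    refine ⟨map_mem hφ r, ?_⟩
    show φ r ∈ Subgroup.normalizer _
    let α := conjAut Q (r : Ω) (hR.1 r.2).2
    rw [Subgroup.mem_normalizer_iff]
    intro y
    constructor
    · rintro ⟨q, rfl⟩
      refine ⟨α q, ?_⟩
      show φ _ = φ r * φ _ * (φ r)⁻¹
      rw [← map_inv, ← map_mul, ← map_mul]
      exact congrArg φ (Subtype.ext rfl)
    · rintro ⟨q, hq⟩
      refine ⟨α.symm q, mul_left_cancel (a := φ r) (mul_right_cancel (b := (φ r)⁻¹) ?_)⟩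
      show φ r * φ _ * (φ r)⁻¹ = _
      rw [← hq, ← map_inv, ← map_mul, ← map_mul]
      refine congrArg φ (Subtype.ext ?_)
      show (α (α.symm q) : Ω) = q
      rw [MulEquiv.apply_symm_apply]
  have hcN : c ∈ normalizerIn S φ₀.range := by
    refine ⟨hc.1, centralizer_le_normalizer _ (Subgroup.centralizer_le ?_ hc.2)⟩
    rintro _ ⟨q, rfl⟩
    exact ⟨_, rfl⟩
  let χ : R →* Ω := ψ.comp ((Subgroup.inclusion hle).comp φ.rangeRestrict)
  have hχF : χ ∈ F.Hom R := mem_of_comp hφ hψ (fun r => hle ⟨r, rfl⟩) _ fun _ => rfl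
  have hχQ : ∀ q : Q, χ (Subgroup.inclusion hQR q) = (e ⟨φ₀ q, q, rfl⟩ : Ω) := fun q =>
    hag ⟨φ₀ q, q, rfl⟩
  have hχN : χ ∈ N.Hom R := by
    rw [hN]
    have hle' : R ⊔ Q ≤ R := sup_le le_rfl hQR
    refine ⟨hχF, hR.1, fun r => hψv _, χ.comp (Subgroup.inclusion hle'),
      restrict_mem hχF hle', fun _ => rfl, ?_⟩
    ext y
    rw [mem_map_subgroupOf]
    constructor
    · rintro ⟨x, -, hxQ, rfl⟩
      show χ (Subgroup.inclusion hQR ⟨x, hxQ⟩) ∈ Q
      rw [hχQ]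
      exact (e _).2
    · intro hy
      obtain ⟨⟨_, q, rfl⟩, hq⟩ := e.surjective ⟨y, hy⟩
      exact ⟨q, le_sup_right (a := R) q.2, q.2, (hχQ q).trans (congrArg Subtype.val hq)⟩
  have hmem : ψ ⟨c, hcN⟩ ∈ χ.range := by
    refine hR.2 _ ⟨χ, hχN, rfl⟩ ⟨hψv _, ?_⟩
    show _ ∈ Subgroup.centralizer _
    rw [Subgroup.mem_centralizer_iff]
    rintro _ ⟨r, rfl⟩
    show ψ _ * ψ _ = ψ _ * ψ _
    rw [← map_mul, ← map_mul]
    exact congrArg ψ (Subtype.ext (Subgroup.mem_centralizer_iff.1 hc.2 _ ⟨r, rfl⟩))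
  obtain ⟨r, hr⟩ := hmem
  exact ⟨r, congrArg Subtype.val (hom_inj hψ hr :)⟩

/-- Section freeness passes to normalizers of fully normalized subgroups. -/
theorem isSectionFree_normalizer [Finite S] [Fact p.Prime] (hS : IsPGroup p S)
    (hF : F.IsSaturated p) {X : Type*} [Group X] (hfree : F.IsSectionFree p X)
    (hQ : F.IsFullyNormalized Q) {N : Cfsg.FusionSystem (normalizerIn S Q)}
    (hN : F.IsNormalizerSystem Q N) : N.IsSectionFree p X := by
  classical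
  have hT₀S : normalizerIn S Q ≤ S := normalizerIn_le S Q
  have : Finite (normalizerIn S Q) := finite_of_le hT₀S
  have hT₀ : IsPGroup p (normalizerIn S Q) := hS.to_le hT₀S
  have hNsat := isSaturated_normalizerSystem hS hF hQ hN
  have hQN := isNormal_normalizerSystem hQ.1 hN
  refine isSectionFree_of_radical hT₀ hNsat fun R hRn hRc hRr M hM L _ ι hm hX => ?_
  have hQR : Q ≤ R := ((Cfsg.Agent.S5086.result p hT₀ N hNsat Q).1 hQN).2 R hRc hRr
  have hRF : F.IsCentric R := isCentric_of_normalizerSystem hS hF hQ hN hRc hQR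
  obtain ⟨R₁, hRR₁, hR₁n⟩ := exists_isFullyNormalized F hRF.1
  have hR₁c := isCentric_of_isConj hRF hRR₁
  obtain ⟨e, he, θ₀, hθ₀, hθ₀v, hag⟩ := exists_normalizer_map hS hF hR₁n hRR₁
  have hM₁ : F.IsNormalizerSystem R₁ (normalizerSystem F R₁ hR₁n.1) := fun _ => rfl
  obtain ⟨L₁, _, ι₁, τ₁, hm₁, hτs, -, hequiv, hker⟩ :=
    exists_model hS hF hR₁c hR₁n hR₁n.1 _ hM₁
  have hι₁ := hm₁.2.1
  have hT : normalizerIn (normalizerIn S Q) R ≤ normalizerIn S R := inf_le_inf_right _ hT₀S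
  refine hfree R₁ hR₁n hR₁c _ hM₁ L₁ ι₁ hm₁ ?_
  refine involves_of_submodel (E := M) (K := N.autGroup R) hS hF hR₁n.1 hM₁ hm₁
    (fun l r => ⟨_, hequiv l r⟩) ?_ hRF (le_normalizerIn hRc.1) hT ?_
    (not_dvd_index_autInducedBy hT₀ hNsat hRn)
    ((autInducedBy_mono (normalizerIn_le _ R) R).trans (autInducedBy_le_autGroup N hRc.1))
    (θ₀.comp (Subgroup.inclusion hT)) (restrict_mem hθ₀ hT) (fun x => hθ₀v _) ?_ hm hX
  · intro l hl
    have h1 : τ₁ l = 1 := by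
      refine Subtype.ext (MulEquiv.ext fun r => ?_)
      exact Subgroup.inclusion_injective _ (hι₁.1 ((hequiv l r).symm.trans (hl r)))
    obtain ⟨z, -, hz⟩ := hker l h1
    exact ⟨z, hz⟩
  · intro P φ
    rw [normalizer_iff_extHom hRc.1 hM P φ]
    constructor
    · rintro ⟨hP, hv, ψ, hψ, hag', α, hα, hψα⟩
      exact ⟨hP, hv, ψ, ((Set.ext_iff.1 (hN _) ψ).1 hψ).1, hag', α, hα, hψα⟩
    · rintro ⟨hP, hv, ψ, hψ, hag', α, hα, hψα⟩
      refine ⟨hP, hv, ψ, ?_, hag', α, hα, hψα⟩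
      have hαN := (mem_autGroup_iff_hom hRc.1).1 hα
      rw [hN R] at hαN
      obtain ⟨-, -, -, ψ', -, hag'', hQQ⟩ := hαN
      have hle : (P ⊔ R) ⊔ Q ≤ P ⊔ R := sup_le le_rfl (hQR.trans le_sup_right)
      rw [hN]
      refine ⟨hψ, sup_le (hP.trans (normalizerIn_le _ R)) hRc.1, forall_mem_of_sup
        (fun x => hag' x ▸ (hv x).1) (fun r => hψα r ▸ hRc.1 (α r).2),
        ψ.comp (Subgroup.inclusion hle), restrict_mem hψ hle, fun _ => rfl, ?_⟩
      ext y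
      rw [mem_map_subgroupOf]
      have hαQ : ∀ q : Q, ψ' (Subgroup.inclusion le_sup_right q) =
          ((α (Subgroup.inclusion hQR q) : R) : Ω) := fun q => by
        have h1 := hag'' (Subgroup.inclusion hQR q)
        exact (congrArg ψ' (Subtype.ext rfl)).trans h1
      have hψQ : ∀ q : Q, ψ (Subgroup.inclusion (hQR.trans le_sup_right) q) =
          ψ' (Subgroup.inclusion le_sup_right q) := fun q => by
        rw [hαQ]
        exact hψα (Subgroup.inclusion hQR q)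
      constructor
      · rintro ⟨x, -, hxQ, rfl⟩
        show ψ (Subgroup.inclusion (hQR.trans le_sup_right) ⟨x, hxQ⟩) ∈ Q
        rw [hψQ]
        exact mem_of_map_subgroupOf_sup_eq hQQ _
      · intro hy
        rw [← hQQ] at hy
        obtain ⟨⟨x, hx⟩, hxQ, rfl⟩ := hy
        exact ⟨x, le_sup_right (a := P ⊔ R) hxQ, hxQ, hψQ ⟨x, hxQ⟩⟩
  · intro α hα
    have hαF : α ∈ F.autGroup R := by
      have := (mem_autGroup_iff_hom hRc.1).1 hα
      rw [hN R] at this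
      exact (mem_autGroup_iff_hom hRF.1).2 this.1
    obtain ⟨l, hl⟩ := hτs ⟨MulAut.congr e α, he.congr_mem hαF⟩
    refine ⟨l, fun r => ?_⟩
    have h1 := hequiv l (e r)
    rw [hl] at h1
    have h2 : ∀ r : R, (⟨(θ₀.comp (Subgroup.inclusion hT))
        (Subgroup.inclusion (le_normalizerIn hRc.1) r), hθ₀v _⟩ : normalizerIn S R₁) =
        Subgroup.inclusion (le_normalizerIn hR₁n.1) (e r) := fun r =>
      Subtype.ext (hag r)
    rw [h2, h2]
    refine h1.trans ?_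
    show ι₁ (Subgroup.inclusion _ (MulAut.congr e α (e r))) = _
    rw [congr_apply, MulEquiv.symm_apply_apply]

end CfsgLib.FusionModelSub
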