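import Cfsg.Agent.Lib.Fusion.Model
import Cfsg.Agent.Lib.Fusion.Realized
import Cfsg.Agent.Lib.Fusion.ModelAgree
import Cfsg.Agent.S5091
import Cfsg.Prelude.Def_LocalEven

/-!
# Recognising models of local subsystems
-/

set_option autoImplicit false

namespace CfsgLib.FusionModelSub

open Cfsg Cfsg.FusionSystem CfsgLib.Fusion CfsgLib.FusionModel

variable {Ω : Type*} [Group Ω] {S : Subgroup Ω} {F : Cfsg.FusionSystem S} {p : ℕ}

/-- The maps on `P ≤ T` extending to `P ⊔ Q` and inducing on `Q` a member of `K`. -/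
def ExtHom (F : Cfsg.FusionSystem S) (T Q : Subgroup Ω) (K : Subgroup (MulAut Q))
    (P : Subgroup Ω) (φ : P →* Ω) : Prop :=
  P ≤ T ∧ (∀ x, φ x ∈ T) ∧ ∃ ψ ∈ F.Hom (P ⊔ Q),
    (∀ x : P, ψ (Subgroup.inclusion le_sup_left x) = φ x) ∧
    ∃ α ∈ K, ∀ q : Q, ψ (Subgroup.inclusion le_sup_right q) = ((α q : Q) : Ω)

/-- The normalizer system consists of the extendable maps. -/
theorem normalizer_iff_extHom [Finite S] {Q : Subgroup Ω} (hQ : Q ≤ S)
    {N : Cfsg.FusionSystem (normalizerIn S Q)} (hN : F.IsNormalizerSystem Q N) (P : Subgroup Ω)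
    (φ : P →* Ω) :
    φ ∈ N.Hom P ↔ ExtHom F (normalizerIn S Q) Q (F.autGroup Q) P φ := by
  rw [hN P]
  constructor
  · rintro ⟨-, hP, hv, ψ, hψ, hag, hQQ⟩
    obtain ⟨α, hα, hx⟩ := exists_aut (restrict_mem hψ (le_sup_right : Q ≤ P ⊔ Q))
      (by rw [range_comp_inclusion]; exact hQQ)
    exact ⟨hP, hv, ψ, hψ, hag, α, hα, fun q => (hx q).symm⟩
  · rintro ⟨hP, hv, ψ, hψ, hag, α, -, hα⟩
    refine ⟨mem_of_restrict hψ le_sup_left φ fun x => (hag x).symm, hP, hv, ψ, hψ, hag, ?_⟩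
    rw [← range_comp_inclusion le_sup_right]
    have : Finite Q := finite_of_le hQ
    exact range_eq_of_le (hom_inj (restrict_mem hψ le_sup_right)) fun q => by
      show ψ (Subgroup.inclusion le_sup_right q) ∈ Q
      rw [hα]
      exact (α q).2

variable {H : Type*} [Group H]

/-- Recognition of a model. -/
theorem isModel_of_ext [Finite S] [Fact p.Prime] (hS : IsPGroup p S) (hF : F.IsSaturated p)
    {T Q : Subgroup Ω} (hQc : F.IsCentric Q) (hQT : Q ≤ T) (hTN : T ≤ normalizerIn S Q)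
    {K : Subgroup (MulAut Q)} {E : Cfsg.FusionSystem T}
    (hE : ∀ P φ, φ ∈ E.Hom P ↔ ExtHom F T Q K P φ)
    [Finite H] (ι : T →* H) (hι : Function.Injective ι) (τ : H →* MulAut Q) (hτ : τ.range = K)
    (hequiv : ∀ (h : H) (q : Q), h * ι (Subgroup.inclusion hQT q) * h⁻¹ =
      ι (Subgroup.inclusion hQT (τ h q)))
    (hker : ∀ h : H, τ h = 1 → ∃ z : Q, ι (Subgroup.inclusion hQT z) = h)
    (hfus : ∀ (h : H) (P : Subgroup Ω) (hP : P ≤ T) (φ : P →* Ω) (hφ : ∀ x, φ x ∈ T),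
      (∀ x : P, ι ⟨φ x, hφ x⟩ = h * ι ⟨x, hP x.2⟩ * h⁻¹) → φ ∈ F.Hom P)
    (hsyl : ¬ p ∣ ((autInducedBy T Q).subgroupOf K).index) :
    E.IsModel p H ι := by
  classical
  have hTS : T ≤ S := hTN.trans (normalizerIn_le S Q)
  have hτι : ∀ (t : T) (q : Q), ((τ (ι t) q : Q) : Ω) = (t : Ω) * q * (t : Ω)⁻¹ := by
    intro t q
    have h1 := hequiv (ι t) q
    rw [← map_inv, ← map_mul, ← map_mul] at h1
    exact congrArg Subtype.val (hι h1).symm
  -- lifting conjugation by `h` to a map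
  have hlift : ∀ (h : H) (P : Subgroup Ω) (hP : P ≤ T),
      (∀ x : P, ∃ y : T, ι y = h * ι ⟨x, hP x.2⟩ * h⁻¹) →
      ∃ χ ∈ F.Hom (P ⊔ Q), ∃ hv : ∀ x, χ x ∈ T, ∀ x : ↥(P ⊔ Q),
        ι ⟨χ x, hv x⟩ = h * ι ⟨x, sup_le hP hQT x.2⟩ * h⁻¹ := by
    intro h P hP hex
    have hPQ : P ⊔ Q ≤ T := sup_le hP hQT
    let f : ↥(P ⊔ Q) →* H := (MulAut.conj h).toMonoidHom.comp (ι.comp (Subgroup.inclusion hPQ))
    have hf : ∀ x, f x ∈ ι.range := by
      have hle : P ⊔ Q ≤ ((ι.range.comap (MulAut.conj h).toMonoidHom).comap ι).map T.subtype := by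
        refine sup_le (fun x hx => ?_) fun x hx => ?_
        · obtain ⟨y, hy⟩ := hex ⟨x, hx⟩
          exact ⟨⟨x, hP hx⟩, ⟨y, hy⟩, rfl⟩
        · exact ⟨Subgroup.inclusion hQT ⟨x, hx⟩, ⟨_, (hequiv h ⟨x, hx⟩).symm⟩, rfl⟩
      intro x
      obtain ⟨y, hy, e⟩ := hle x.2
      have e' : Subgroup.inclusion hPQ x = y := Subtype.ext e.symm
      show MulAut.conj h (ι (Subgroup.inclusion hPQ x)) ∈ ι.range
      rw [e']
      exact hy
    let χ : ↥(P ⊔ Q) →* Ω :=
      T.subtype.comp ((MonoidHom.ofInjective hι).symm.toMonoidHom.comp (f.codRestrict _ hf))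
    have hv : ∀ x, χ x ∈ T := fun x => Subtype.coe_prop _
    have hχ : ∀ x : ↥(P ⊔ Q), ι ⟨χ x, hv x⟩ = h * ι ⟨x, hPQ x.2⟩ * h⁻¹ := fun x => by
      have := congrArg Subtype.val
        ((MonoidHom.ofInjective hι).apply_symm_apply ⟨f x, hf x⟩)
      rw [MonoidHom.ofInjective_apply] at this
      exact this
    exact ⟨χ, hfus h _ hPQ χ hv hχ, hv, hχ⟩
  refine ⟨‹_›, ⟨hι, fun P hP φ hφ => ?_⟩, ?_, ?_⟩
  · rw [hE]
    constructor
    · rintro ⟨-, -, ψ, hψ, hψφ, α, hα, hψα⟩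
      obtain ⟨h, hh⟩ : α ∈ τ.range := hτ.ge hα
      have hPQ : P ⊔ Q ≤ T := sup_le hP hQT
      have hψT : ∀ x, ψ x ∈ T := by
        intro x
        have hle : P ⊔ Q ≤ ((T.comap ψ).map (P ⊔ Q).subtype) := by
          refine sup_le (fun y hy => ?_) fun y hy => ?_
          · refine ⟨Subgroup.inclusion le_sup_left ⟨y, hy⟩, ?_, rfl⟩
            show ψ _ ∈ T
            rw [hψφ]; exact hφ _
          · refine ⟨Subgroup.inclusion le_sup_right ⟨y, hy⟩, ?_, rfl⟩
            show ψ _ ∈ T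
            rw [hψα]; exact hQT (α _).2
        obtain ⟨y, hy, e⟩ := hle x.2
        rwa [show y = x from Subtype.ext e] at hy
      have hconj : ∀ x : ↥(P ⊔ Q), τ (ι ⟨ψ x, hψT x⟩) = α * τ (ι ⟨x, hPQ x.2⟩) * α⁻¹ := by
        intro x
        rw [eq_mul_inv_iff_mul_eq]
        refine MulEquiv.ext fun q => Subtype.ext ?_
        simp only [MulAut.mul_apply]
        rw [hτι, ← hψα, ← hψα, ← map_inv, ← map_mul, ← map_mul]
        refine congrArg ψ (Subtype.ext ?_)
        show (x : Ω) * q * (x : Ω)⁻¹ = _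
        exact (hτι ⟨x, hPQ x.2⟩ q).symm
      obtain ⟨χ, hχ, hv, hχι⟩ := hlift h P hP fun x => by
        obtain ⟨z, hz⟩ := hker ((ι ⟨ψ (Subgroup.inclusion le_sup_left x), hψT _⟩)⁻¹ *
          (h * ι ⟨x, hP x.2⟩ * h⁻¹)) (by
            rw [map_mul, map_inv, map_mul, map_mul, map_inv, hh, hconj]
            exact inv_mul_cancel _)
        exact ⟨⟨ψ (Subgroup.inclusion le_sup_left x), hψT _⟩ * Subgroup.inclusion hQT z, by
          rw [map_mul, hz, mul_inv_cancel_left]⟩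
      obtain ⟨z, hzQ, -, hz⟩ := eq_conj_of_agree hS hF (le_sup_right : Q ≤ P ⊔ Q)
        (hPQ.trans (hTN.trans inf_le_right)) hQc hχ hψ fun q hq => by
          have h1 : (⟨χ q, hv q⟩ : T) = Subgroup.inclusion hQT (α ⟨q, hq⟩) := by
            apply hι
            rw [hχι, ← hh]
            exact hequiv h ⟨q, hq⟩
          rw [show χ q = ((α ⟨q, hq⟩ : Q) : Ω) from congrArg Subtype.val h1, ← hψα]
          rfl
      refine ⟨h * ι (Subgroup.inclusion hQT ⟨z, hzQ⟩), fun x => ?_⟩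
      have hzx : z * (x : Ω) * z⁻¹ ∈ P ⊔ Q :=
        mul_mem (mul_mem (Subgroup.mem_sup_right hzQ) (Subgroup.mem_sup_left x.2))
          (inv_mem (Subgroup.mem_sup_right hzQ))
      have h2 : (⟨φ x, hφ x⟩ : T) = ⟨χ ⟨_, hzx⟩, hv _⟩ :=
        Subtype.ext ((hψφ x).symm.trans (hz (Subgroup.inclusion le_sup_left x) hzx))
      rw [h2, hχι, mul_inv_rev]
      have h3 : ι (⟨z * (x : Ω) * z⁻¹, hPQ hzx⟩ : T) = ι (Subgroup.inclusion hQT ⟨z, hzQ⟩) *
          ι ⟨x, hP x.2⟩ * (ι (Subgroup.inclusion hQT ⟨z, hzQ⟩))⁻¹ := by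
        rw [← map_inv, ← map_mul, ← map_mul]
        rfl
      rw [h3]
      simp [mul_assoc]
    · rintro ⟨h, hh⟩
      obtain ⟨χ, hχ, hv, hχι⟩ := hlift h P hP fun x => ⟨_, hh x⟩
      refine ⟨hP, hφ, χ, hχ, fun x => ?_, τ h, hτ.le ⟨h, rfl⟩, fun q => ?_⟩
      · have h1 : (⟨χ (Subgroup.inclusion le_sup_left x), hv _⟩ : T) = ⟨φ x, hφ x⟩ :=
          hι ((hχι _).trans (hh x).symm)
        exact congrArg Subtype.val h1
      · have h1 : (⟨χ (Subgroup.inclusion le_sup_right q), hv _⟩ : T) =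
            Subgroup.inclusion hQT (τ h q) := hι ((hχι _).trans (hequiv h q))
        exact congrArg Subtype.val h1
  -- Sylow
  · have hpg : IsPGroup p ι.range := by
      intro g
      obtain ⟨r, hr⟩ := g.2
      obtain ⟨k, hk⟩ := (hS.to_le hTS) r
      exact ⟨k, Subtype.ext (by rw [SubgroupClass.coe_pow, ← hr, ← map_pow, hk, map_one]; rfl)⟩
    have hkerle : τ.ker ≤ ι.range := fun l hl => by
      obtain ⟨z, hz⟩ := hker l hl
      exact ⟨_, hz⟩
    have himg : ι.range.map τ = autInducedBy T Q := by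
      rw [MonoidHom.map_range]
      ext α
      constructor
      · rintro ⟨t, rfl⟩
        exact mem_autInducedBy_iff.2 ⟨t, t.2, fun q => hτι t q⟩
      · intro hα
        obtain ⟨g, hgT, hg⟩ := mem_autInducedBy_iff.1 hα
        exact ⟨⟨g, hgT⟩, MulEquiv.ext fun q => Subtype.ext ((hτι _ q).trans (hg q).symm)⟩
    refine ⟨hpg.toSylow fun hd => hsyl ?_, rfl⟩
    have h1 : (ι.range.map τ).relIndex τ.range = ι.range.index := by
      have h2 := Subgroup.index_map ι.range τ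
      rw [sup_eq_left.2 hkerle] at h2
      have h3 := Subgroup.relIndex_mul_index
        (Subgroup.map_le_range τ ι.range : ι.range.map τ ≤ τ.range)
      rw [h2] at h3
      have : Finite Q := finite_of_le (hQT.trans hTS)
      have : Finite (MulAut Q) := finite_mulAut
      exact Nat.eq_of_mul_eq_mul_right (Nat.pos_of_ne_zero Subgroup.index_ne_zero_of_finite) h3
    rw [himg, hτ] at h1
    show p ∣ (autInducedBy T Q).relIndex K
    rw [h1]
    exact hd
  -- constraint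
  · set U := (ι.comp (Subgroup.inclusion hQT)).range with hU
    have hUn : U.Normal := ⟨by
      rintro _ ⟨q, rfl⟩ l
      exact ⟨_, (hequiv l q).symm⟩⟩
    have hUp : IsPGroup p U := by
      intro g
      obtain ⟨r, hr⟩ := g.2
      obtain ⟨k, hk⟩ := (hS.to_le (hQT.trans hTS)) r
      exact ⟨k, Subtype.ext (by rw [SubgroupClass.coe_pow, ← hr, ← map_pow, hk, map_one]; rfl)⟩
    have hUc : U ≤ pCore p H := le_sSup ⟨hUn, hUp⟩
    intro l hl
    have h1 : τ l = 1 := by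
      refine MulEquiv.ext fun q => ?_
      have h2 := hequiv l q
      have hcomm : ι (Subgroup.inclusion hQT q) * l = l * ι (Subgroup.inclusion hQT q) :=
        Subgroup.mem_centralizer_iff.1 hl _ (hUc ⟨q, rfl⟩)
      rw [← hcomm, mul_inv_cancel_right] at h2
      exact (Subgroup.inclusion_injective _ (hι h2)).symm
    obtain ⟨z, hz⟩ := hker l h1
    exact hUc ⟨z, hz⟩

/-- Two models of one system involve the same groups. -/
theorem involves_of_models {T : Subgroup Ω} [Finite T] [Fact p.Prime] (hT : IsPGroup p T)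
    {E : Cfsg.FusionSystem T} {X : Type*} [Group X] {L₁ L₂ : Type*} [Group L₁] [Group L₂]
    {ι₁ : T →* L₁} {ι₂ : T →* L₂} (h₁ : E.IsModel p L₁ ι₁) (h₂ : E.IsModel p L₂ ι₂)
    (h : Cfsg.Involves X L₁) : Cfsg.Involves X L₂ := by
  obtain ⟨e, -⟩ := Cfsg.Agent.S5091.result p hT E (model_isConstrained h₁) ι₁ ι₂ h₁ h₂
  obtain ⟨K, R, hn, ⟨f⟩⟩ := h
  let g : K.map e.toMonoidHom →* X :=
    (f.toMonoidHom.comp (QuotientGroup.mk' _)).comp (K.equivMapOfInjective e.toMonoidHom e.injective).symm.toMonoidHom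
  have hg : Function.Surjective g :=
    (f.surjective.comp (QuotientGroup.mk'_surjective _)).comp (MulEquiv.surjective _)
  have h : (g.ker.map (K.map e.toMonoidHom).subtype).subgroupOf (K.map e.toMonoidHom) = g.ker :=
    Subgroup.comap_map_eq_self_of_injective (Subgroup.subtype_injective _) _
  have hn' : ((g.ker.map (K.map e.toMonoidHom).subtype).subgroupOf (K.map e.toMonoidHom)).Normal := by
    rw [h]; exact MonoidHom.normal_ker g
  exact ⟨K.map e.toMonoidHom, g.ker.map (K.map e.toMonoidHom).subtype, hn',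
    ⟨(QuotientGroup.quotientMulEquivOfEq h).trans (QuotientGroup.quotientKerEquivOfSurjective g hg)⟩⟩

end CfsgLib.FusionModelSub
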