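import Cfsg.Agent.Lib.FusionModelSub.Sub
import Cfsg.Agent.Lib.Fusion.Model
import Cfsg.Agent.Lib.Fusion.Local
import Cfsg.Agent.Lib.FusionPStable.Local
import Cfsg.Prelude.Def_FusionReduction

/-!
# Section freeness needs checking only at centric radical subgroups
-/

set_option autoImplicit false

namespace CfsgLib.FusionModelSub

open Cfsg Cfsg.FusionSystem CfsgLib.Fusion CfsgLib.FusionModel CfsgLib.FusionPStable

universe u

variable {Ω : Type u} [Group Ω] {S : Subgroup Ω} {F : Cfsg.FusionSystem S} {p : ℕ}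

/-- The automorphisms induced by `S` have index prime to `p` at a fully normalized subgroup. -/
theorem not_dvd_index_autInducedBy [Finite S] [Fact p.Prime] (hS : IsPGroup p S)
    (hF : F.IsSaturated p) {Q : Subgroup Ω} (hQ : F.IsFullyNormalized Q) :
    ¬ p ∣ ((autInducedBy (normalizerIn S Q) Q).subgroupOf (F.autGroup Q)).index := by
  obtain ⟨-, T, hT⟩ := isFullyAutomized_of_isFullyNormalized hS hF hQ
  have he : autInducedBy (normalizerIn S Q) Q = autInducedBy S Q := by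
    refine le_antisymm (autInducedBy_mono (normalizerIn_le S Q) Q) fun α hα => ?_
    obtain ⟨g, hg, hgS, rfl⟩ := exists_eq_conjAut hα
    exact conjAut_mem_autInducedBy (K := normalizerIn S Q) ⟨hgS, hg⟩ hg
  have : Finite Q := finite_of_le hQ.1
  rw [he, ← hT]
  exact T.not_dvd_index

/-- If `R` covers a conjugate of the centric subgroup `Q`, then the models at `Q` are sections of
those at `R`. -/
theorem involves_of_covers [Finite S] [Fact p.Prime] (hS : IsPGroup p S) (hF : F.IsSaturated p)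
    {Q Q' R : Subgroup Ω} (hQn : F.IsFullyNormalized Q) (hQc : F.IsCentric Q)
    (hQQ' : F.IsConj Q Q') (hcov : Covers F Q' R) (hRn : F.IsFullyNormalized R)
    (hRc : F.IsCentric R) {N : Cfsg.FusionSystem (normalizerIn S Q)}
    (hN : F.IsNormalizerSystem Q N) {X : Type*} [Group X] {L : Type*} [Group L]
    {ι : normalizerIn S Q →* L} (hm : N.IsModel p L ι) (hX : Cfsg.Involves X L) :
    ∃ N' : Cfsg.FusionSystem (normalizerIn S R), F.IsNormalizerSystem R N' ∧
      ∃ (L' : Type u) (_ : Group L') (ι' : normalizerIn S R →* L'),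
        N'.IsModel p L' ι' ∧ Cfsg.Involves X L' := by
  classical
  have hN' : F.IsNormalizerSystem R (normalizerSystem F R hRn.1) := fun _ => rfl
  obtain ⟨L', _, ι', τ', hm', hτs, -, hequiv, hker⟩ :=
    exists_model hS hF hRc hRn hRn.1 _ hN'
  refine ⟨_, hN', L', inferInstance, ι', hm', ?_⟩
  have : Finite L' := hm'.1
  have hι' := hm'.2.1
  obtain ⟨hQR, hcov'⟩ := hcov
  obtain ⟨e, he⟩ := exists_iso_of_isConj hQQ'
  have hQ'N : Q' ≤ normalizerIn S R := hQR.trans (le_normalizerIn hRn.1)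
  let f : Q →* L' := ι'.comp ((Subgroup.inclusion hQ'N).comp e.toMonoidHom)
  have hf : Function.Injective f :=
    hι'.1.comp ((Subgroup.inclusion_injective hQ'N).comp e.injective)
  -- every automorphism of `Q` is seen in `L'`
  have hsee : ∀ α ∈ F.autGroup Q, ∃ l : L', ∀ q : Q, l * f q * l⁻¹ = f (α q) := by
    intro α hα
    obtain ⟨β, hβ, hb⟩ := hcov' _ (he.congr_mem hα)
    obtain ⟨l, hl⟩ := hτs ⟨β, hβ⟩
    refine ⟨l, fun q => ?_⟩
    have h1 := hequiv l ⟨e q, hQR (e q).2⟩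
    rw [hl] at h1
    refine h1.trans (congrArg ι' (Subtype.ext ?_))
    show ((β ⟨e q, hQR (e q).2⟩ : R) : Ω) = (e (α q) : Ω)
    rw [hb (e q), congr_apply, MulEquiv.symm_apply_apply]
  have hQN' : ∀ q : Q, (e q : Ω) ∈ Q' := fun q => (e q).2
  have hR₁ : ∀ (l : L') (r : R), ∃ r' : R,
      l * ι' (Subgroup.inclusion (le_normalizerIn hRn.1) r) * l⁻¹ =
        ι' (Subgroup.inclusion (le_normalizerIn hRn.1) r') := fun l r => ⟨_, hequiv l r⟩
  have hR₂ : ∀ l : L', (∀ r : R, l * ι' (Subgroup.inclusion (le_normalizerIn hRn.1) r) * l⁻¹ =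
      ι' (Subgroup.inclusion (le_normalizerIn hRn.1) r)) →
      ∃ r : R, ι' (Subgroup.inclusion (le_normalizerIn hRn.1) r) = l := by
    intro l hl
    have h1 : τ' l = 1 := by
      refine Subtype.ext (MulEquiv.ext fun r => ?_)
      have h2 := (hequiv l r).symm.trans (hl r)
      exact Subgroup.inclusion_injective _ (hι'.1 h2)
    obtain ⟨z, -, hz⟩ := hker l h1
    exact ⟨z, hz⟩
  -- a `p`-subgroup inducing `Aut_S(Q)` on the copy of `Q`
  set τ₀ := normAct f hf with hτ₀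
  have hker₀ : IsPGroup p τ₀.ker := by
    intro x
    obtain ⟨q, hq⟩ := centralizer_image_centric hS hRn.1 hN' hm' hR₁ hR₂
      (isCentric_of_isConj hQc hQQ') hQ'N (c := ((x : Subgroup.normalizer (f.range : Set L')) : L'))
      (fun q => by
        have h1 := normAct_spec f hf x (e.symm q)
        rw [← hτ₀, show τ₀ x = 1 from x.2] at h1
        simpa [f] using h1)
    obtain ⟨k, hk⟩ := hS ⟨q, hQ'N q.2 |>.1⟩
    refine ⟨k, Subtype.ext (Subtype.ext ?_)⟩
    rw [SubgroupClass.coe_pow, SubgroupClass.coe_pow, ← hq, ← map_pow, ← map_pow,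
      show q ^ p ^ k = 1 from Subtype.ext (congrArg Subtype.val hk :), map_one, map_one]
    rfl
  let P₀ : Subgroup L' := ((autInducedBy S Q).comap τ₀).map
    (Subgroup.normalizer (f.range : Set L')).subtype
  have hP₀ : IsPGroup p P₀ :=
    ((isPGroup_autInducedBy hS Q).comap_of_ker_isPGroup τ₀ hker₀).map _
  obtain ⟨T', hT'⟩ := hm'.2.2.1
  obtain ⟨g, hg⟩ := exists_conj_le_sylow T' hP₀
  rw [hT'] at hg
  have hfP₀ : ∀ q : Q, f q ∈ P₀ := by
    intro q
    obtain ⟨hl, hl'⟩ := normAct_eq f hf (l := f q)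
      (α := conjAut Q (q : Ω) (Subgroup.le_normalizer q.2)) fun a => by
        rw [← map_inv, ← map_mul, ← map_mul]
        rfl
    refine ⟨⟨f q, hl⟩, ?_, rfl⟩
    show τ₀ ⟨f q, hl⟩ ∈ autInducedBy S Q
    rw [hτ₀, hl']
    exact conjAut_mem_autInducedBy (hQc.1 q.2) _
  obtain ⟨φ₂, hφ₂, hφ₂ι⟩ := realized_subgroup_conj hι' hQ'N g fun q => by
    have h1 := hg _ (hfP₀ (e.symm q))
    rw [show f (e.symm q) = ι' (Subgroup.inclusion hQ'N q) from by simp [f]] at h1
    exact h1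
  have hφ₂F : φ₂ ∈ F.Hom Q' := ((Set.ext_iff.1 (hN' Q') φ₂).1 hφ₂).1
  let φ : Q →* Ω := φ₂.comp e.toMonoidHom
  have hφ : φ ∈ F.Hom Q := mem_of_comp he hφ₂F (fun q => (e q).2) _ fun _ => rfl
  have hφR : ∀ q : Q, φ q ∈ R := by
    intro q
    obtain ⟨r', hr'⟩ := hR₁ g ⟨e q, hQR (e q).2⟩
    have h1 := hφ₂ι (e q) (map_mem hφ₂ _)
    have h2 := congrArg Subtype.val (hι'.1 (h1.trans hr'))
    show φ₂ (e q) ∈ R
    rw [show φ₂ (e q) = (r' : Ω) from h2]
    exact r'.2
  have hφι : ∀ q : Q, ι' ⟨φ q, le_normalizerIn hRn.1 (hφR q)⟩ = g * f q * g⁻¹ := fun q =>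
    hφ₂ι (e q) _
  let e₂ : Q ≃* φ.range := isoOfInjective (hom_inj hφ) rfl
  have he₂ : IsFIso F e₂ := isFIso_isoOfInjective hφ rfl
  have hQ₂ : F.IsCentric φ.range := isCentric_of_isConj hQc ⟨φ, hφ, rfl⟩
  -- elements of `N_S(Q)` are seen in `N_S(R)`
  have hy : ∀ x (hx : x ∈ normalizerIn S Q), ∃ y : normalizerIn S R, ∀ q : Q,
      (y : Ω) * φ q * (y : Ω)⁻¹ = φ (conjAut Q x hx.2 q) := by
    intro x hx
    have hxF := conjAut_mem_autInducedBy (P := Q) hx.1 hx.2
    obtain ⟨l, hl⟩ := hsee _ (autInducedBy_le_autGroup F hQn.1 hxF)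
    obtain ⟨hlN, hl'⟩ := normAct_eq f hf hl
    obtain ⟨y, hy⟩ := hg l ⟨⟨l, hlN⟩, (show τ₀ ⟨l, hlN⟩ ∈ autInducedBy S Q from
      hτ₀ ▸ hl' ▸ hxF), rfl⟩
    refine ⟨y, fun q => ?_⟩
    refine congrArg Subtype.val (hι'.1 (a₁ := y * ⟨φ q, le_normalizerIn hRn.1 (hφR q)⟩ * y⁻¹)
      (a₂ := ⟨φ (conjAut Q x hx.2 q), le_normalizerIn hRn.1 (hφR _)⟩) ?_)
    rw [map_mul, map_mul, map_inv, hy, hφι, hφι, ← hl q]
    group
  obtain ⟨θ, hθ, hθv, hθe⟩ := he₂.exists_extension (isReceptive_of_isCentric hS hF hQ₂)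
    (le_normalizerIn hQn.1) le_rfl (by
      intro x hx
      obtain ⟨y, hy⟩ := hy x hx
      refine mem_autInducedBy_iff.2 ⟨y, y.2.1, fun z => ?_⟩
      obtain ⟨q, rfl⟩ := e₂.surjective z
      rw [congr_apply, MulEquiv.symm_apply_apply]
      exact (hy q).symm)
  have hθR : ∀ x, θ x ∈ normalizerIn S R := by
    intro x
    obtain ⟨y, hy⟩ := hy x x.2
    have hc : (y : Ω)⁻¹ * θ x ∈ φ.range := by
      refine hQ₂.2 _ (isConj_refl F hQ₂.1) ⟨S.mul_mem (S.inv_mem y.2.1) (hθv x).1, ?_⟩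
      show _ ∈ Subgroup.centralizer _
      rw [Subgroup.mem_centralizer_iff]
      rintro _ ⟨q, rfl⟩
      have h1 : θ x * φ q * (θ x)⁻¹ = φ (conjAut Q (x : Ω) x.2.2 q) := by
        have h2 := hθe q
        have h3 := hθe (conjAut Q (x : Ω) x.2.2 q)
        rw [show φ q = (e₂ q : Ω) from rfl, ← h2, ← map_inv, ← map_mul, ← map_mul]
        exact (congrArg θ (Subtype.ext rfl)).trans h3
      rw [← hy q] at h1
      calc φ q * ((y : Ω)⁻¹ * θ x) = (y : Ω)⁻¹ * ((y : Ω) * φ q * (y : Ω)⁻¹) * θ x := by group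
        _ = (y : Ω)⁻¹ * θ x * φ q := by rw [← h1]; group
    have h2 : φ.range ≤ normalizerIn S R := by
      rintro _ ⟨q, rfl⟩
      exact le_normalizerIn hRn.1 (hφR q)
    have h3 := (normalizerIn S R).mul_mem y.2 (h2 hc)
    rwa [mul_inv_cancel_left] at h3
  refine involves_of_submodel hS hF hRn.1 hN' hm' hR₁ hR₂ hQc (le_normalizerIn hQn.1) le_rfl
    (normalizer_iff_extHom hQn.1 hN) (not_dvd_index_autInducedBy hS hF hQn)
    ((autInducedBy_mono (normalizerIn_le S Q) Q).trans (autInducedBy_le_autGroup F hQn.1))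
    θ hθ hθR (fun α hα => ?_) hm hX
  obtain ⟨l, hl⟩ := hsee α hα
  refine ⟨g * l * g⁻¹, fun q => ?_⟩
  have hq : ∀ q : Q, ι' ⟨θ (Subgroup.inclusion (le_normalizerIn hQn.1) q), hθR _⟩ =
      g * f q * g⁻¹ := fun q => by
    rw [← hφι]
    exact congrArg ι' (Subtype.ext (hθe q))
  rw [hq, hq, ← hl q]
  group

/-- If no group at a fully normalized centric radical subgroup involves `X`, then `F` is
`X`-free. -/
theorem isSectionFree_of_radical [Finite S] [Fact p.Prime] (hS : IsPGroup p S)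
    (hF : F.IsSaturated p) {X : Type*} [Group X]
    (h : ∀ Q : Subgroup Ω, F.IsFullyNormalized Q → F.IsCentric Q → F.IsRadical p Q →
      ∀ N : Cfsg.FusionSystem (normalizerIn S Q), F.IsNormalizerSystem Q N →
        ∀ (L : Type u) [Group L] (ι : normalizerIn S Q →* L),
          N.IsModel p L ι → ¬ Cfsg.Involves X L) :
    F.IsSectionFree p X := by
  intro Q hQn hQc N hN L _ ι hm hX
  obtain ⟨Q', R, hQQ', hcov, hRn, hRc, hRr⟩ := exists_covers_radical hS hF hQn.1
  obtain ⟨N', hN', L', _, ι', hm', hX'⟩ :=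
    involves_of_covers hS hF hQn hQc hQQ' hcov hRn hRc hN hm hX
  exact h R hRn hRc hRr N' hN' L' ι' hm' hX'

end CfsgLib.FusionModelSub
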