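import Cfsg.Agent.Lib.FusionModelSub.Basic
import Cfsg.Agent.Lib.Fusion.Centric

/-!
# Models inside models of normalizers of centric subgroups
-/

set_option autoImplicit false

namespace CfsgLib.FusionModelSub

open Cfsg Cfsg.FusionSystem CfsgLib.Fusion CfsgLib.FusionModel

/-- The action of the normalizer of the image of an embedding on its source. -/
noncomputable def normAct {A L : Type*} [Group A] [Group L] (f : A →* L)
    (hf : Function.Injective f) : Subgroup.normalizer (f.range : Set L) →* MulAut A :=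
  ((MulAut.congr (MonoidHom.ofInjective hf).symm).toMonoidHom).comp f.range.normalizerMonoidHom

theorem normAct_spec {A L : Type*} [Group A] [Group L] (f : A →* L) (hf : Function.Injective f)
    (l : Subgroup.normalizer (f.range : Set L)) (a : A) :
    (l : L) * f a * (l : L)⁻¹ = f (normAct f hf l a) := by
  have h1 := congrArg Subtype.val ((MonoidHom.ofInjective hf).apply_symm_apply
    (f.range.normalizerMonoidHom l (MonoidHom.ofInjective hf a)))
  rw [MonoidHom.ofInjective_apply] at h1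
  exact h1.symm

theorem normAct_eq {A L : Type*} [Group A] [Group L] (f : A →* L) (hf : Function.Injective f)
    {l : L} {α : MulAut A} (h : ∀ a, l * f a * l⁻¹ = f (α a)) :
    ∃ hl : l ∈ Subgroup.normalizer (f.range : Set L), normAct f hf ⟨l, hl⟩ = α := by
  have hl : l ∈ Subgroup.normalizer (f.range : Set L) := by
    rw [Subgroup.mem_normalizer_iff]
    intro x
    constructor
    · rintro ⟨a, rfl⟩
      exact ⟨α a, (h a).symm⟩
    · rintro ⟨a, ha⟩
      refine ⟨α.symm a, mul_left_cancel (a := l) (mul_right_cancel (b := l⁻¹) ?_)⟩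
      rw [h, MulEquiv.apply_symm_apply, ha]
  exact ⟨hl, MulEquiv.ext fun a => hf ((normAct_spec f hf ⟨l, hl⟩ a).symm.trans (h a))⟩

/-- Involvement passes to overgroups. -/
theorem involves_subgroup {X L : Type*} [Group X] [Group L] {H : Subgroup L}
    (h : Cfsg.Involves X H) : Cfsg.Involves X L := by
  obtain ⟨K, R, hn, ⟨f⟩⟩ := h
  let g : K.map H.subtype →* X := (f.toMonoidHom.comp (QuotientGroup.mk' _)).comp
    (K.equivMapOfInjective H.subtype (Subgroup.subtype_injective _)).symm.toMonoidHom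
  have hg : Function.Surjective g :=
    (f.surjective.comp (QuotientGroup.mk'_surjective _)).comp (MulEquiv.surjective _)
  have h : (g.ker.map (K.map H.subtype).subtype).subgroupOf (K.map H.subtype) = g.ker :=
    Subgroup.comap_map_eq_self_of_injective (Subgroup.subtype_injective _) _
  have hn' : ((g.ker.map (K.map H.subtype).subtype).subgroupOf (K.map H.subtype)).Normal := by
    rw [h]; exact MonoidHom.normal_ker g
  exact ⟨K.map H.subtype, g.ker.map (K.map H.subtype).subtype, hn',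
    ⟨(QuotientGroup.quotientMulEquivOfEq h).trans (QuotientGroup.quotientKerEquivOfSurjective g hg)⟩⟩

variable {Ω : Type*} [Group Ω] {S : Subgroup Ω} {F : Cfsg.FusionSystem S} {p : ℕ}

/-- In a model of the normalizer system of `R`, the centralizer of the image of a centric
subgroup of `N_S(R)` is the image of its centre. -/
theorem centralizer_image_centric [Finite S] [Fact p.Prime] (hS : IsPGroup p S) {R : Subgroup Ω}
    (hRS : R ≤ S) {N : Cfsg.FusionSystem (normalizerIn S R)} (hN : F.IsNormalizerSystem R N)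
    {L : Type*} [Group L] {ι : normalizerIn S R →* L} (hm : N.IsModel p L ι)
    (hR₁ : ∀ (l : L) (r : R), ∃ r' : R, l * ι (Subgroup.inclusion (le_normalizerIn hRS) r) * l⁻¹ =
      ι (Subgroup.inclusion (le_normalizerIn hRS) r'))
    (hR₂ : ∀ l : L, (∀ r : R, l * ι (Subgroup.inclusion (le_normalizerIn hRS) r) * l⁻¹ =
      ι (Subgroup.inclusion (le_normalizerIn hRS) r)) →
      ∃ r : R, ι (Subgroup.inclusion (le_normalizerIn hRS) r) = l)
    {Q : Subgroup Ω} (hQ : F.IsCentric Q) (hQN : Q ≤ normalizerIn S R) {c : L}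
    (hc : ∀ q : Q, c * ι (Subgroup.inclusion hQN q) * c⁻¹ = ι (Subgroup.inclusion hQN q)) :
    ∃ q : Q, ι (Subgroup.inclusion hQN q) = c := by
  classical
  have : Finite L := hm.1
  have hι := hm.2.1
  obtain ⟨T, hT⟩ := hm.2.2.1
  set f : Q →* L := ι.comp (Subgroup.inclusion hQN) with hf
  have hpg : IsPGroup p ι.range := hT ▸ T.2
  -- the `p`-elements
  have hp : ∀ d : L, (∀ q : Q, d * f q * d⁻¹ = f q) → IsPGroup p (Subgroup.zpowers d) →
      ∃ q : Q, f q = d := by
    intro d hd hdp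
    have hfr : IsPGroup p f.range := by
      refine hpg.to_le ?_
      rintro _ ⟨q, rfl⟩
      exact ⟨_, rfl⟩
    have hnorm : Subgroup.zpowers d ≤ Subgroup.normalizer (f.range : Set L) :=
      Subgroup.zpowers_le.2 (by
        refine centralizer_le_normalizer _ ?_
        rw [Subgroup.mem_centralizer_iff]
        rintro _ ⟨q, rfl⟩
        conv_lhs => rw [← hd q]
        simp)
    obtain ⟨g, hg⟩ := exists_conj_le_sylow T (hdp.to_sup_of_normal_right' hfr hnorm)
    rw [hT] at hg
    obtain ⟨φ, hφ, hφι⟩ := realized_subgroup_conj hι hQN g fun q =>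
      hg _ (Subgroup.mem_sup_right ⟨q, rfl⟩)
    have hφF : φ ∈ F.Hom Q := ((Set.ext_iff.1 (hN Q) φ).1 hφ).1
    obtain ⟨s, hs⟩ := hg d (Subgroup.mem_sup_left (Subgroup.mem_zpowers d))
    have hsQ : (s : Ω) ∈ φ.range := by
      refine hQ.2 φ.range ⟨φ, hφF, rfl⟩ ⟨s.2.1, ?_⟩
      show (s : Ω) ∈ Subgroup.centralizer _
      rw [Subgroup.mem_centralizer_iff]
      rintro _ ⟨q, rfl⟩
      have h1 : ι (⟨φ q, (map_mem hφ q)⟩ * s) = ι (s * ⟨φ q, map_mem hφ q⟩) := by
        rw [map_mul, map_mul, hs, hφι]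
        have h2 : d * f q = f q * d := by
          conv_rhs => rw [← hd q]
          simp
        calc g * f q * g⁻¹ * (g * d * g⁻¹) = g * (f q * d) * g⁻¹ := by group
          _ = g * (d * f q) * g⁻¹ := by rw [h2]
          _ = g * d * g⁻¹ * (g * f q * g⁻¹) := by group
      exact congrArg Subtype.val (hι.1 h1)
    obtain ⟨q, hq⟩ := hsQ
    refine ⟨q, ?_⟩
    have h1 : (⟨φ q, map_mem hφ q⟩ : normalizerIn S R) = s := Subtype.ext hq
    have h2 := hφι q (map_mem hφ q)
    rw [h1, hs] at h2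
    exact (mul_left_cancel (mul_right_cancel h2)).symm
  -- elements of order prime to `p`
  have hp' : ∀ d : L, (∀ q : Q, d * f q * d⁻¹ = f q) → (orderOf d).Coprime p → d = 1 := by
    intro d hd hdc
    let A : Subgroup (normalizerIn S R) := (R ⊔ Q).subgroupOf (normalizerIn S R)
    let W : Subgroup L := A.map ι
    let D : Subgroup L := W ⊓ Subgroup.centralizer {d}
    have hRW : ∀ r : R, ι (Subgroup.inclusion (le_normalizerIn hRS) r) ∈ W := fun r =>
      ⟨_, (Subgroup.mem_sup_left r.2 : (r : Ω) ∈ R ⊔ Q), rfl⟩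
    have hfW : ∀ q : Q, f q ∈ W := fun q =>
      ⟨_, (Subgroup.mem_sup_right q.2 : (q : Ω) ∈ R ⊔ Q), rfl⟩
    have hfD : ∀ q : Q, f q ∈ D := fun q => ⟨hfW q, Subgroup.mem_centralizer_iff.2 fun y hy => by
      rw [Set.mem_singleton_iff] at hy
      subst hy
      conv_rhs => rw [← hd q]
      simp⟩
    have hWc : ∀ w ∈ W, d * w * d⁻¹ ∈ W := by
      have hle : A ≤ (W.comap (MulAut.conj d).toMonoidHom).comap ι := by
        intro a ha
        have h1 : R ⊔ Q ≤ ((W.comap (MulAut.conj d).toMonoidHom).comap ι).map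
            (normalizerIn S R).subtype := by
          refine sup_le (fun x hx => ⟨⟨x, le_normalizerIn hRS hx⟩, ?_, rfl⟩)
            fun x hx => ⟨⟨x, hQN hx⟩, ?_, rfl⟩
          · obtain ⟨r', hr'⟩ := hR₁ d ⟨x, hx⟩
            show d * _ * d⁻¹ ∈ W
            exact hr' ▸ hRW r'
          · show d * _ * d⁻¹ ∈ W
            exact (hd ⟨x, hx⟩).symm ▸ hfW ⟨x, hx⟩
        obtain ⟨b, hb, hba⟩ := h1 ha
        rwa [show b = a from Subtype.ext hba] at hb
      rintro _ ⟨a, ha, rfl⟩
      exact hle ha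
    have hWle : W ≤ ι.range := Subgroup.map_le_range _ _
    have hWp : IsPGroup p W := hpg.to_le hWle
    have : Group.IsNilpotent W := hWp.isNilpotent
    have hDW : D.subgroupOf W = ⊤ := by
      refine normalizerCondition_iff_only_full_group_self_normalizing.1
        normalizerCondition_of_isNilpotent _ (le_antisymm (fun x hx => ?_) Subgroup.le_normalizer)
      show (x : L) ∈ D
      set y : L := (x : L)⁻¹ * (d * x * d⁻¹) with hy
      have hyW : y ∈ W := mul_mem (inv_mem x.2) (hWc x x.2)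
      have hdD : ∀ e ∈ D, d * e * d⁻¹ = e := fun e he => by
        rw [Subgroup.mem_centralizer_iff.1 he.2 d rfl]
        simp
      have hycomm : ∀ e ∈ D, y * e * y⁻¹ = e := by
        intro e he
        have h1 : (x : L) * e * (x : L)⁻¹ ∈ D :=
          (Subgroup.mem_normalizer_iff.1 hx (⟨e, he.1⟩ : W)).1 he
        have h2 := hdD _ he
        calc y * e * y⁻¹ = (x : L)⁻¹ * (d * x * (d⁻¹ * (d * e * d⁻¹) * d) * (x : L)⁻¹ * d⁻¹) * x := by
              rw [hy, h2]; group
          _ = (x : L)⁻¹ * (d * ((x : L) * e * (x : L)⁻¹) * d⁻¹) * x := by group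
          _ = e := by rw [hdD _ h1]; group
      have hyD : y ∈ D := by
        obtain ⟨s, hs⟩ := hWle hyW
        have hsQ : (s : Ω) ∈ Q := by
          refine centric_self hQ s.2.1 (Subgroup.mem_centralizer_iff.2 fun q hq => ?_)
          have h1 := hycomm _ (hfD ⟨q, hq⟩)
          rw [← hs, hf, MonoidHom.comp_apply, ← map_inv, ← map_mul, ← map_mul] at h1
          have h2 := congrArg Subtype.val (hι.1 h1)
          simp only [Subgroup.coe_mul, Subgroup.coe_inv, Subgroup.coe_inclusion] at h2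
          conv_lhs => rw [← h2]
          simp
        have h1 := hfD ⟨s, hsQ⟩
        rw [show f ⟨s, hsQ⟩ = y from hs] at h1
        exact h1
      have hpow : ∀ n : ℕ, d ^ n * x * (d ^ n)⁻¹ = x * y ^ n := by
        intro n
        induction n with
        | zero => simp
        | succ n ih =>
          calc d ^ (n + 1) * x * (d ^ (n + 1))⁻¹ = d * (d ^ n * x * (d ^ n)⁻¹) * d⁻¹ := by
                rw [pow_succ']; group
            _ = (d * x * d⁻¹) * (d * y ^ n * d⁻¹) := by rw [ih]; group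
            _ = x * y * y ^ n := by
                rw [hdD _ (pow_mem hyD n), hy]; group
            _ = x * y ^ (n + 1) := by rw [pow_succ', mul_assoc]
      have h1 := hpow (orderOf d)
      rw [pow_orderOf_eq_one, one_mul, inv_one, mul_one, left_eq_mul] at h1
      obtain ⟨k, hk⟩ := hWp ⟨y, hyW⟩
      have hk' : y ^ p ^ k = 1 := congrArg Subtype.val hk
      have hy1 : y = 1 := by
        refine orderOf_eq_one_iff.1 (Nat.eq_one_of_dvd_coprimes (hdc.pow_right k) ?_ ?_)
        · exact orderOf_dvd_of_pow_eq_one h1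
        · exact orderOf_dvd_of_pow_eq_one hk'
      refine ⟨x.2, Subgroup.mem_centralizer_iff.2 fun z hz => ?_⟩
      rw [Set.mem_singleton_iff] at hz
      subst hz
      have h3 : z * (x : L) * z⁻¹ = x := by
        have := hpow 1
        rwa [hy1, pow_one, one_pow, mul_one] at this
      conv_rhs => rw [← h3]
      simp
    have hfix : ∀ r : R, d * ι (Subgroup.inclusion (le_normalizerIn hRS) r) * d⁻¹ =
        ι (Subgroup.inclusion (le_normalizerIn hRS) r) := fun r => by
      have h1 : (⟨_, hRW r⟩ : W) ∈ D.subgroupOf W := hDW ▸ Subgroup.mem_top _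
      have h2 : d * ι (Subgroup.inclusion (le_normalizerIn hRS) r) =
          ι (Subgroup.inclusion (le_normalizerIn hRS) r) * d :=
        Subgroup.mem_centralizer_iff.1 h1.2 d rfl
      rw [h2]
      simp
    obtain ⟨r, rfl⟩ := hR₂ d hfix
    obtain ⟨k, hk⟩ := hS ⟨r, hRS r.2⟩
    refine orderOf_eq_one_iff.1 (Nat.eq_one_of_dvd_coprimes (hdc.pow_right k) dvd_rfl ?_)
    refine orderOf_dvd_of_pow_eq_one ?_
    rw [← map_pow, ← map_pow, show r ^ p ^ k = 1 from Subtype.ext (congrArg Subtype.val hk :),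
      map_one, map_one]
  -- general elements
  obtain ⟨a, m, hm', hcard⟩ := Nat.exists_eq_pow_mul_and_not_dvd (orderOf_pos c).ne' p
    (Fact.out : p.Prime).ne_one
  have hcomm : ∀ (n : ℕ) (q : Q), c ^ n * f q * (c ^ n)⁻¹ = f q := by
    intro n q
    induction n with
    | zero => simp
    | succ n ih =>
      calc c ^ (n + 1) * f q * (c ^ (n + 1))⁻¹ = c * (c ^ n * f q * (c ^ n)⁻¹) * c⁻¹ := by
            rw [pow_succ']; group
        _ = f q := by rw [ih]; exact hc q
  have h1 : c ^ p ^ a = 1 := by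
    refine hp' _ (fun q => hcomm _ q) ?_
    have h2 : orderOf (c ^ p ^ a) ∣ m := by
      refine orderOf_dvd_of_pow_eq_one ?_
      rw [← pow_mul, ← hcard, pow_orderOf_eq_one]
    exact Nat.Coprime.coprime_dvd_left h2
      (((Fact.out : p.Prime).coprime_iff_not_dvd.2 hm').symm)
  refine hp c hc fun x => ⟨a, Subtype.ext ?_⟩
  obtain ⟨n, hn⟩ := Subgroup.mem_zpowers_iff.1 x.2
  rw [SubgroupClass.coe_pow, ← hn, ← zpow_natCast, ← zpow_mul, mul_comm, zpow_mul, zpow_natCast,
    h1, one_zpow]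
  rfl

/-- A model of a subsystem around a centric subgroup is a section of the model of the normalizer
system that sees all of it. -/
theorem involves_of_submodel [Finite S] [Fact p.Prime] (hS : IsPGroup p S) (hF : F.IsSaturated p)
    {R : Subgroup Ω}
    (hRS : R ≤ S) {N : Cfsg.FusionSystem (normalizerIn S R)} (hN : F.IsNormalizerSystem R N)
    {L₁ : Type*} [Group L₁] {ι₁ : normalizerIn S R →* L₁} (hm : N.IsModel p L₁ ι₁)
    (hR₁ : ∀ (l : L₁) (r : R), ∃ r' : R,
      l * ι₁ (Subgroup.inclusion (le_normalizerIn hRS) r) * l⁻¹ =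
        ι₁ (Subgroup.inclusion (le_normalizerIn hRS) r'))
    (hR₂ : ∀ l : L₁, (∀ r : R, l * ι₁ (Subgroup.inclusion (le_normalizerIn hRS) r) * l⁻¹ =
      ι₁ (Subgroup.inclusion (le_normalizerIn hRS) r)) →
      ∃ r : R, ι₁ (Subgroup.inclusion (le_normalizerIn hRS) r) = l)
    {T Q : Subgroup Ω} (hQc : F.IsCentric Q) (hQT : Q ≤ T) (hTN : T ≤ normalizerIn S Q)
    {K : Subgroup (MulAut Q)} {E : Cfsg.FusionSystem T}
    (hE : ∀ P φ, φ ∈ E.Hom P ↔ ExtHom F T Q K P φ)
    (hsyl : ¬ p ∣ ((autInducedBy T Q).subgroupOf K).index) (hTK : autInducedBy T Q ≤ K)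
    (θ : T →* Ω) (hθ : θ ∈ F.Hom T) (hθv : ∀ x, θ x ∈ normalizerIn S R)
    (hK : ∀ α ∈ K, ∃ l : L₁, ∀ q : Q, l * ι₁ ⟨θ (Subgroup.inclusion hQT q), hθv _⟩ * l⁻¹ =
      ι₁ ⟨θ (Subgroup.inclusion hQT (α q)), hθv _⟩)
    {X : Type*} [Group X] {L : Type*} [Group L] {ι : T →* L} (hmod : E.IsModel p L ι)
    (hX : Cfsg.Involves X L) : Cfsg.Involves X L₁ := by
  classical
  have : Finite L₁ := hm.1
  have hι₁ := hm.2.1
  let κ : T →* L₁ := ι₁.comp (θ.codRestrict _ hθv)
  have hκ : Function.Injective κ := fun a b h =>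
    hom_inj hθ (congrArg Subtype.val (hι₁.1 h) :)
  let f : Q →* L₁ := κ.comp (Subgroup.inclusion hQT)
  have hf : Function.Injective f := hκ.comp (Subgroup.inclusion_injective _)
  let H : Subgroup L₁ := (K.comap (normAct f hf)).map (Subgroup.normalizer (f.range : Set L₁)).subtype
  have hHN : ∀ h : H, (h : L₁) ∈ Subgroup.normalizer (f.range : Set L₁) := fun h =>
    Subgroup.map_subtype_le _ h.2
  have hκH : ∀ t, κ t ∈ H := by
    intro t
    have htN := hTN t.2
    obtain ⟨hl, he⟩ := normAct_eq f hf (l := κ t) (α := conjAut Q t htN.2) fun q => by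
      show κ t * κ _ * (κ t)⁻¹ = κ _
      rw [← map_inv, ← map_mul, ← map_mul]
      rfl
    refine ⟨⟨κ t, hl⟩, ?_, rfl⟩
    show normAct f hf ⟨κ t, hl⟩ ∈ K
    rw [he]
    exact hTK (conjAut_mem_autInducedBy t.2 _)
  let τ : H →* MulAut Q := (normAct f hf).comp
    ((Subgroup.subtype H).codRestrict _ hHN)
  have hτ : τ.range = K := by
    apply le_antisymm
    · rintro _ ⟨h, rfl⟩
      obtain ⟨y, hy, hyh⟩ := h.2
      show normAct f hf ⟨h, hHN h⟩ ∈ K
      rw [show (⟨(h : L₁), hHN h⟩ : Subgroup.normalizer (f.range : Set L₁)) = y from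
        Subtype.ext hyh.symm]
      exact hy
    · intro α hα
      obtain ⟨l, hl⟩ := hK α hα
      obtain ⟨hl', he⟩ := normAct_eq f hf (l := l) (α := α) hl
      exact ⟨⟨l, ⟨l, hl'⟩, (show normAct f hf ⟨l, hl'⟩ ∈ K from he ▸ hα), rfl⟩, he⟩
  have hmodH : E.IsModel p H (κ.codRestrict H hκH) := by
    refine isModel_of_ext hS hF hQc hQT hTN hE (κ.codRestrict H hκH)
      (fun a b h => hκ (congrArg Subtype.val h :)) τ hτ ?_ ?_ ?_ hsyl
    · exact fun h q => Subtype.ext (normAct_spec f hf ⟨h, hHN h⟩ q)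
    · intro h hh
      have hQ' : F.IsConj Q (θ.comp (Subgroup.inclusion hQT)).range :=
        ⟨_, restrict_mem hθ hQT, rfl⟩
      have hle : (θ.comp (Subgroup.inclusion hQT)).range ≤ normalizerIn S R := by
        rintro _ ⟨q, rfl⟩
        exact hθv _
      obtain ⟨⟨_, q, rfl⟩, hq⟩ := centralizer_image_centric hS hRS hN hm hR₁ hR₂
        (isCentric_of_isConj hQc hQ') hle (c := (h : L₁)) (by
          rintro ⟨_, q, rfl⟩
          have h1 := normAct_spec f hf ⟨h, hHN h⟩ q
          rw [show normAct f hf ⟨h, hHN h⟩ = 1 from hh] at h1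
          exact h1)
      exact ⟨q, Subtype.ext hq⟩
    · intro h P hP φ hφ hh
      have hθP : θ.comp (Subgroup.inclusion hP) ∈ F.Hom P := restrict_mem hθ hP
      let P₁ := (θ.comp (Subgroup.inclusion hP)).range
      have hP₁ : P₁ ≤ normalizerIn S R := by
        rintro _ ⟨x, rfl⟩
        exact hθv _
      have hh' : ∀ x : P, ι₁ ⟨θ ⟨φ x, hφ x⟩, hθv _⟩ =
          (h : L₁) * ι₁ ⟨θ ⟨x, hP x.2⟩, hθv _⟩ * (h : L₁)⁻¹ := fun x =>
        congrArg Subtype.val (hh x)
      obtain ⟨χ, hχ, hχι⟩ := realized_subgroup_conj hι₁ hP₁ (h : L₁) (by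
        rintro ⟨_, x, rfl⟩
        exact ⟨_, hh' x⟩)
      have hχF : χ ∈ F.Hom P₁ := ((Set.ext_iff.1 (hN P₁) χ).1 hχ).1
      -- `θ⁻¹ ∘ χ ∘ θ = φ`
      let eT := isoOfInjective (hom_inj hθ) rfl
      have heT : IsFIso F eT := isFIso_isoOfInjective hθ rfl
      have h1 : χ.comp ((θ.comp (Subgroup.inclusion hP)).rangeRestrict) ∈ F.Hom P :=
        mem_of_comp hθP hχF (fun x => ⟨x, rfl⟩) _ fun x => rfl
      refine mem_of_comp h1 heT.symm (fun x => ?_) φ fun x => ?_
      · have h2 := hχι ⟨_, x, rfl⟩ (map_mem hχ _)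
        show χ ⟨_, x, rfl⟩ ∈ θ.range
        rw [show χ _ = θ ⟨φ x, hφ x⟩ from congrArg Subtype.val (hι₁.1 (h2.trans (hh' x).symm))]
        exact ⟨_, rfl⟩
      · have h2 := hχι ⟨_, x, rfl⟩ (map_mem hχ _)
        have h3 : χ ⟨_, x, rfl⟩ = θ ⟨φ x, hφ x⟩ :=
          congrArg Subtype.val (hι₁.1 (h2.trans (hh' x).symm))
        refine congrArg Subtype.val (((eT.eq_symm_apply).2 ?_ : (⟨φ x, hφ x⟩ : T) = _))
        exact Subtype.ext h3.symm
  have : Finite T := finite_of_le (hTN.trans (normalizerIn_le S Q))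
  exact involves_subgroup
    (involves_of_models (hS.to_le (hTN.trans (normalizerIn_le S Q))) hmod hmodH hX)

end CfsgLib.FusionModelSub
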